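import Cfsg.Agent.LeechUnique.Framed

/-!
Shortest vectors of a framed lattice: their number forces a Golay code and an odd vector.
-/

set_option autoImplicit false
set_option linter.unusedSectionVars false

namespace CfsgLib.LeechUnique

open Cfsg CfsgLib.Mathieu Finset
open scoped symmDiff

theorem abs_le_of_sum_sq {a : GolayPt → ℤ} {i : GolayPt} {n m : ℤ} (h : ∑ j, a j ^ 2 = n)
    (hm : n < m ^ 2) (hm0 : 0 ≤ m) : -m < a i ∧ a i < m := by
  have h1 : a i ^ 2 ≤ n := h ▸ Finset.single_le_sum (fun j _ => sq_nonneg (a j)) (Finset.mem_univ i)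
  constructor <;> nlinarith

/-- Vectors with squared length equal to the size of their odd set are signed indicators of it. -/
theorem values_of_sq_eq {a : GolayPt → ℤ} {s : Finset GolayPt} (hs : oddSet a = s)
    (h : ∑ i, a i ^ 2 = s.card) : ∀ i, if i ∈ s then a i = 1 ∨ a i = -1 else a i = 0 := by
  have hz : ∑ i, (a i ^ 2 - if i ∈ s then 1 else 0) = 0 := by
    rw [Finset.sum_sub_distrib, sum_indicator, h, sub_self]
  have hn : ∀ i ∈ univ, 0 ≤ a i ^ 2 - (if i ∈ s then (1 : ℤ) else 0) := by
    intro i _
    split_ifs with hi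
    · rw [← hs, mem_oddSet] at hi
      have : a i ≠ 0 := fun h0 => hi (h0 ▸ dvd_zero 2)
      have : 0 < a i ^ 2 := by positivity
      omega
    · simpa using sq_nonneg (a i)
  intro i
  have := (Finset.sum_eq_zero_iff_of_nonneg hn).1 hz i (Finset.mem_univ i)
  split_ifs with hi
  · rw [if_pos hi] at this
    exact sq_eq_one_iff.1 (by omega)
  · rw [if_neg hi, sub_zero] at this
    exact pow_eq_zero_iff (two_ne_zero : (2 : ℕ) ≠ 0) |>.1 this

theorem sum_of_values {a : GolayPt → ℤ} {s : Finset GolayPt}
    (h : ∀ i, if i ∈ s then a i = 1 ∨ a i = -1 else a i = 0) :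
    ∑ i, a i = 2 * ((univ.filter fun i => a i = 1).card : ℤ) - s.card := by
  rw [Finset.natCast_card_filter, Finset.mul_sum, ← sum_indicator s, ← Finset.sum_sub_distrib]
  refine Finset.sum_congr rfl fun i _ => ?_
  have := h i
  split_ifs at this ⊢ with h1 h2 <;> omega

theorem eq_of_values {a b : GolayPt → ℤ} {s : Finset GolayPt}
    (ha : ∀ i, if i ∈ s then a i = 1 ∨ a i = -1 else a i = 0)
    (hb : ∀ i, if i ∈ s then b i = 1 ∨ b i = -1 else b i = 0)
    (h : (univ.filter fun i => a i = 1) = univ.filter fun i => b i = 1) : a = b := by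
  funext i
  have h1 := Finset.ext_iff.1 h i
  simp only [mem_filter, mem_univ, true_and] at h1
  have := ha i; have := hb i
  split_ifs at * <;> omega

variable {L : AddSubgroup (GolayPt → ℤ)} (hL : IsFramed L)
include hL

/-- An odd vector of squared length 32 has a single coordinate `±3` and all others `±1`. -/
theorem IsFramed.odd_shape {x : GolayPt → ℤ} (hn : sqNorm x = 32) (ho : ∀ i, ¬ (2 : ℤ) ∣ x i) :
    ∃ j, (x j = 3 ∨ x j = -3) ∧ ∀ i, i ≠ j → x i = 1 ∨ x i = -1 := by
  have hb : ∀ i, -6 < x i ∧ x i < 6 := fun i => abs_le_of_sum_sq hn (by norm_num) (by norm_num)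
  have hz : ∑ i, (x i ^ 2 - 1) = 8 := by
    rw [Finset.sum_sub_distrib]; simp only [sqNorm] at hn; rw [hn]; simp [ZMod.card]
  have hnn : ∀ i ∈ univ, 0 ≤ x i ^ 2 - 1 := fun i _ => by
    have : x i ≠ 0 := fun h => ho i (h ▸ dvd_zero 2)
    have : 0 < x i ^ 2 := by positivity
    omega
  have key : ∀ i, x i = 1 ∨ x i = -1 ∨ 8 ≤ x i ^ 2 - 1 := fun i => by
    have h1 := hb i; have h2 := ho i
    obtain h | h | h | h : x i = 1 ∨ x i = -1 ∨ 3 ≤ x i ∨ x i ≤ -3 := by omega
    · exact Or.inl h
    · exact Or.inr (Or.inl h)
    · exact Or.inr (Or.inr (by nlinarith))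
    · exact Or.inr (Or.inr (by nlinarith))
  obtain ⟨j, hj⟩ : ∃ j, ¬ (x j = 1 ∨ x j = -1) := by
    by_contra! hall
    rw [Finset.sum_eq_zero fun i _ => ?_] at hz
    · norm_num at hz
    · rcases hall i with h | h <;> simp [h]
  have hj8 : 8 ≤ x j ^ 2 - 1 := by rcases key j with h | h | h <;> tauto
  refine ⟨j, ?_, fun i hij => ?_⟩
  · have h1 := Finset.single_le_sum hnn (Finset.mem_univ j)
    rw [hz] at h1
    have h9 : x j ^ 2 = 3 ^ 2 := by omega
    exact sq_eq_sq_iff_eq_or_eq_neg.1 h9
  · by_contra hne
    have hi8 : 8 ≤ x i ^ 2 - 1 := by rcases key i with h | h | h <;> tauto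
    have h2 : ∑ t ∈ ({i, j} : Finset GolayPt), (x t ^ 2 - 1) ≤ 8 := hz ▸
      Finset.sum_le_sum_of_subset_of_nonneg (subset_univ _) (fun t _ _ => hnn t (Finset.mem_univ t))
    rw [Finset.sum_pair hij] at h2
    omega

theorem IsFramed.eq_of_mod_four {x y : GolayPt → ℤ} {j : GolayPt}
    (hx : (x j = 3 ∨ x j = -3) ∧ ∀ i, i ≠ j → x i = 1 ∨ x i = -1)
    (hy : (y j = 3 ∨ y j = -3) ∧ ∀ i, i ≠ j → y i = 1 ∨ y i = -1)
    (h : ∀ i, (4 : ℤ) ∣ x i - y i) : x = y := by
  funext i
  have hi := h i
  by_cases hij : i = j
  · subst hij; have := hx.1; have := hy.1; omega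
  · have := hx.2 i hij; have := hy.2 i hij; omega

theorem IsFramed.finite_short : {x | x ∈ L ∧ sqNorm x = 32}.Finite :=
  Set.finite_of_ncard_ne_zero (by rw [hL.count]; norm_num)

open Classical in
/-- The shortest vectors. -/
noncomputable def IsFramed.short : Finset (GolayPt → ℤ) := hL.finite_short.toFinset

theorem IsFramed.mem_short {x : GolayPt → ℤ} : x ∈ hL.short ↔ x ∈ L ∧ sqNorm x = 32 := by
  simp [IsFramed.short]

theorem IsFramed.card_short : hL.short.card = 196560 := by
  rw [IsFramed.short, ← Set.ncard_eq_toFinset_card _ hL.finite_short, hL.count]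

/-- The even shortest vectors are at most `1104 + 128 A₈`. -/
theorem IsFramed.card_short_even_le :
    (hL.short.filter fun x => ∀ i, (2 : ℤ) ∣ x i).card ≤
      1104 + 128 * ((codeOf L).filter fun c => c.card = 8).card := by
  classical
  set S := hL.short.filter fun x => ∀ i, (2 : ℤ) ∣ x i with hS
  let half : (GolayPt → ℤ) → GolayPt → ℤ := fun x i => x i / 2
  have hhalf : ∀ x ∈ S, (2 : ℤ) • half x = x ∧ ∑ i, half x i ^ 2 = 8 := by
    intro x hx
    rw [hS, mem_filter, hL.mem_short] at hx
    have e : (2 : ℤ) • half x = x := funext fun i => Int.mul_ediv_cancel' (hx.2 i)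
    refine ⟨e, ?_⟩
    have := hx.1.2
    rw [← e, sqNorm_two_mul] at this
    omega
  have hmem : ∀ x ∈ S, (2 : ℤ) • half x ∈ L ∧ oddSet (half x) ∈ codeOf L := by
    intro x hx
    have e := (hhalf x hx).1
    rw [hS, mem_filter, hL.mem_short] at hx
    exact ⟨by rw [e]; exact hx.1.1, mem_codeOf.2 ⟨_, by rw [e]; exact hx.1.1, rfl⟩⟩
  rw [← card_filter_add_card_filter_not (s := S) (fun x => oddSet (half x) = ∅)]
  refine Nat.add_le_add ?_ ?_
  · -- supports of size two
    let q : (GolayPt → ℤ) → GolayPt → ℤ := fun x i => half x i / 2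
    have hq : ∀ x ∈ S.filter (fun x => oddSet (half x) = ∅),
        x = (4 : ℤ) • q x ∧ ∑ i, q x i ^ 2 = 2 ∧ oddSet (q x) ∈ (univ : Finset GolayPt).powersetCard 2 ∧
          ∀ i, if i ∈ oddSet (q x) then q x i = 1 ∨ q x i = -1 else q x i = 0 := by
      intro x hx
      rw [mem_filter] at hx
      obtain ⟨e, h8⟩ := hhalf x hx.1
      have he : ∀ i, half x i = 2 * q x i := fun i => by
        refine (Int.mul_ediv_cancel' ?_).symm
        have := mt mem_oddSet.2 (hx.2 ▸ Finset.notMem_empty i)
        simpa using this
      have e4 : x = (4 : ℤ) • q x := funext fun i => by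
        have h := congrFun e i
        simp only [Pi.smul_apply, smul_eq_mul] at h ⊢
        rw [← h, he i]; ring
      have h2 : ∑ i, q x i ^ 2 = 2 := by
        simp only [he, mul_pow, ← Finset.mul_sum] at h8; omega
      have hpm : ∀ i, q x i = 0 ∨ q x i = 1 ∨ q x i = -1 := fun i => by
        have := abs_le_of_sum_sq (i := i) h2 (m := 2) (by norm_num) (by norm_num); omega
      have hc : ((oddSet (q x)).card : ℤ) = 2 := by
        rw [oddSet, Finset.natCast_card_filter]
        refine (Finset.sum_congr rfl fun i _ => ?_).trans h2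
        rcases hpm i with h | h | h <;> simp [h]
      have hc' : (oddSet (q x)).card = 2 := by exact_mod_cast hc
      exact ⟨e4, h2, mem_powersetCard.2 ⟨subset_univ _, hc'⟩,
        values_of_sq_eq rfl (by rw [h2, hc']; norm_num)⟩
    calc (S.filter fun x => oddSet (half x) = ∅).card
        ≤ (((univ : Finset GolayPt).powersetCard 2).sigma fun s => s.powerset).card := by
          refine card_le_card_of_injOn (fun x => ⟨oddSet (q x), univ.filter fun i => q x i = 1⟩) ?_ ?_
          · intro x hx
            rw [mem_coe] at hx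
            simp only [mem_coe, Finset.mem_sigma, Finset.mem_powerset]
            refine ⟨(hq x hx).2.2.1, fun i hi => ?_⟩
            have := (hq x hx).2.2.2 i
            simp only [mem_filter] at hi
            by_contra hn
            rw [if_neg hn] at this
            omega
          · intro x hx y hy hxy
            rw [mem_coe] at hx hy
            obtain ⟨ex, -, -, hvx⟩ := hq x hx
            obtain ⟨ey, -, -, hvy⟩ := hq y hy
            simp only [Sigma.mk.injEq, heq_eq_eq] at hxy
            exact ex.trans ((congrArg (fun v : GolayPt → ℤ => (4 : ℤ) • v)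
              (eq_of_values hvx (hxy.1 ▸ hvy) hxy.2)).trans ey.symm)
      _ = 1104 := by
          rw [card_sigma, Finset.sum_congr rfl (g := fun _ => 4) (fun s hs => by
            rw [card_powerset, (mem_powersetCard.1 hs).2]; rfl), sum_const, card_powersetCard,
            card_univ, card_pt]
          rfl
  · -- supports of size eight
    set O := (codeOf L).filter fun c => c.card = 8 with hO
    have hv : ∀ x ∈ S.filter (fun x => ¬ oddSet (half x) = ∅), oddSet (half x) ∈ O ∧
        ∀ i, if i ∈ oddSet (half x) then half x i = 1 ∨ half x i = -1 else half x i = 0 := by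
      intro x hx
      rw [mem_filter] at hx
      obtain ⟨-, h8⟩ := hhalf x hx.1
      have hc := (hmem x hx.1).2
      have h1 := hL.code_four_dvd hc
      have h2 := hL.code_ne_four hc
      have h3 : 0 < (oddSet (half x)).card := Finset.card_pos.2 (Finset.nonempty_of_ne_empty hx.2)
      have h4 : ((oddSet (half x)).card : ℤ) ≤ 8 := by
        rw [oddSet, Finset.natCast_card_filter]
        refine (Finset.sum_le_sum fun i _ => ?_).trans h8.le
        by_cases h : (2 : ℤ) ∣ half x i
        · rw [if_neg (not_not.2 h)]
          exact sq_nonneg _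
        · rw [if_pos h]
          have : half x i ≠ 0 := fun h0 => h (h0 ▸ dvd_zero 2)
          have : 0 < half x i ^ 2 := by positivity
          omega
      have h5 : (oddSet (half x)).card = 8 := by omega
      exact ⟨mem_filter.2 ⟨hc, h5⟩, values_of_sq_eq rfl (by rw [h8, h5]; rfl)⟩
    have htot : ∀ c ∈ O, ((S.filter (fun x => ¬ oddSet (half x) = ∅)).filter
        fun x => oddSet (half x) = c).card ≤ 128 := by
      intro c hc
      obtain ⟨o, ho⟩ := Finset.card_pos.1 (by have := (mem_filter.1 hc).2; omega : 0 < c.card)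
      calc _ ≤ (c.erase o).powerset.card := by
            refine card_le_card_of_injOn (fun x => (univ.filter fun i => half x i = 1).erase o) ?_ ?_
            · intro x hx
              rw [mem_coe] at hx
              obtain ⟨hx1, hx2⟩ := mem_filter.1 hx
              obtain ⟨-, hvx⟩ := hv x hx1
              rw [hx2] at hvx
              refine mem_coe.2 (mem_powerset.2 fun i hi => ?_)
              simp only [mem_erase, mem_filter] at hi ⊢
              refine ⟨hi.1, ?_⟩
              have := hvx i
              by_contra hn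
              rw [if_neg hn] at this
              omega
            · intro x hx y hy hxy
              rw [mem_coe] at hx hy
              obtain ⟨hx1, hx2⟩ := mem_filter.1 hx
              obtain ⟨hy1, hy2⟩ := mem_filter.1 hy
              obtain ⟨-, hvx⟩ := hv x hx1
              obtain ⟨-, hvy⟩ := hv y hy1
              rw [hx2] at hvx
              rw [hy2] at hvy
              have hx0 := (mem_filter.1 hx1).1
              have hy0 := (mem_filter.1 hy1).1
              suffices half x = half y by
                rw [← (hhalf x hx0).1, ← (hhalf y hy0).1, this]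
              have h4 := (hL.two_smul_iff (hmem x hx0).1 (hy2.trans hx2.symm)).1 (hmem y hy0).1
              rw [sum_of_values hvx, sum_of_values hvy] at h4
              refine eq_of_values hvx hvy ?_
              set P := univ.filter fun i => half x i = 1
              set Q := univ.filter fun i => half y i = 1
              simp only at hxy
              by_cases hP : o ∈ P <;> by_cases hQ : o ∈ Q
              · rw [← insert_erase hP, ← insert_erase hQ, hxy]
              · exfalso
                have e1 := card_erase_add_one hP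
                rw [hxy, erase_eq_of_notMem hQ] at e1
                omega
              · exfalso
                have e1 := card_erase_add_one hQ
                rw [← hxy, erase_eq_of_notMem hP] at e1
                omega
              · rw [← erase_eq_of_notMem hP, ← erase_eq_of_notMem hQ, hxy]
        _ = 128 := by rw [card_powerset, card_erase_of_mem ho, (mem_filter.1 hc).2]; rfl
    exact card_le_mul_card_image_of_maps_to (fun x hx => (hv x hx).1) 128 htot

/-- The odd shortest vectors are at most 24 per code word. -/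
theorem IsFramed.card_short_odd_le :
    (hL.short.filter fun x => ¬ ∀ i, (2 : ℤ) ∣ x i).card ≤ 24 * (codeOf L).card := by
  classical
  set S := hL.short.filter fun x => ¬ ∀ i, (2 : ℤ) ∣ x i with hS
  rcases S.eq_empty_or_nonempty with e | ⟨w, hw⟩
  · simp [e]
  have hS' : ∀ x ∈ S, x ∈ L ∧ (∀ i, ¬ (2 : ℤ) ∣ x i) ∧ sqNorm x = 32 := by
    intro x hx
    rw [hS, mem_filter, hL.mem_short] at hx
    obtain ⟨k, hk⟩ := not_forall.1 hx.2
    exact ⟨hx.1.1, fun i => by have := hL.parity x hx.1.1 i k; omega, hx.1.2⟩
  choose j hj using fun x (hx : x ∈ S) => hL.odd_shape (hS' x hx).2.2 (hS' x hx).2.1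
  let pos : (GolayPt → ℤ) → GolayPt := fun x => if h : x ∈ S then j x h else none
  let key : (GolayPt → ℤ) → GolayPt × Finset GolayPt := fun x =>
    (pos x, oddSet fun i => (x i - w i) / 2)
  calc S.card ≤ ((univ : Finset GolayPt) ×ˢ codeOf L).card := by
        refine card_le_card_of_injOn key ?_ ?_
        · intro x hx
          refine mem_coe.2 (mem_product.2 ⟨mem_univ _, mem_codeOf.2 ⟨_, ?_, rfl⟩⟩)
          have e : (2 : ℤ) • (fun i => (x i - w i) / 2) = x - w := funext fun i => by
            refine Int.mul_ediv_cancel' ?_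
            have h1 := (hS' x hx).2.1 i
            have h2 := (hS' w hw).2.1 i
            omega
          rw [e]
          exact sub_mem (hS' x hx).1 (hS' w hw).1
        · intro x hx y hy hxy
          rw [mem_coe] at hx hy
          simp only [key, pos, Prod.mk.injEq, dif_pos hx, dif_pos hy] at hxy
          have hy' := hj y hy
          rw [← hxy.1] at hy'
          refine hL.eq_of_mod_four (hj x hx) hy' fun i => ?_
          have h := oddSet_eq_iff.1 hxy.2 i
          have h1 := (hS' x hx).2.1 i
          have h2 := (hS' y hy).2.1 i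
          have h3 := (hS' w hw).2.1 i
          omega
    _ = _ := by rw [card_product, card_univ, card_pt]

/-- The code of a framed lattice is a Golay code, and the lattice has an odd vector. -/
theorem IsFramed.golay : IsGolayFamily (codeOf L) ∧ ∃ w ∈ L, ∀ i, ¬ (2 : ℤ) ∣ w i := by
  classical
  have h1 := hL.card_short_even_le
  have h2 := hL.card_short_odd_le
  have h3 := card_filter_add_card_filter_not (s := hL.short) fun x => ∀ i, (2 : ℤ) ∣ x i
  have h4 := hL.card_code_le
  have h5 := hL.card_octads_le
  have h6 := hL.card_short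
  refine ⟨⟨card_pt, by omega, hL.code_empty, fun a ha b hb => hL.code_symm ha hb,
    fun a ha => hL.code_four_dvd ha, fun a ha => hL.code_ne_four ha⟩, ?_⟩
  have h7 : 0 < (hL.short.filter fun x => ¬ ∀ i, (2 : ℤ) ∣ x i).card := by omega
  obtain ⟨w, hw⟩ := Finset.card_pos.1 h7
  rw [mem_filter, hL.mem_short] at hw
  obtain ⟨k, hk⟩ := not_forall.1 hw.2
  exact ⟨w, hw.1.1, fun i => by have := hL.parity w hw.1.1 i k; omega⟩

end CfsgLib.LeechUnique
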