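import Cfsg.Agent.Leech.Basic
import Cfsg.Agent.Mathieu.CodeUnique

/-!
Integer lattices containing a frame of eightfold coordinate vectors, with minimum squared length 32,
all squared lengths divisible by 16 and 196560 shortest vectors: the even vectors define a binary
Golay code and an odd vector exists.
-/

set_option autoImplicit false
set_option linter.unusedSectionVars false

namespace CfsgLib.LeechUnique

open Cfsg CfsgLib.Mathieu Finset
open scoped symmDiff

/-- A lattice of integer vectors with a standard frame and the numerical data of the Leech lattice. -/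
structure IsFramed (L : AddSubgroup (GolayPt → ℤ)) : Prop where
  dvd : ∀ x ∈ L, (16 : ℤ) ∣ sqNorm x
  min : ∀ x ∈ L, x ≠ 0 → 32 ≤ sqNorm x
  parity : ∀ x ∈ L, ∀ i j, (2 : ℤ) ∣ x i - x j
  pairs : ∀ i j : GolayPt, i ≠ j →
    Pi.single i 4 + Pi.single j 4 ∈ L ∧ Pi.single i 4 - Pi.single j 4 ∈ L
  count : {x | x ∈ L ∧ sqNorm x = 32}.ncard = 196560

/-- The positions of the odd coordinates. -/
def oddSet (a : GolayPt → ℤ) : Finset GolayPt := univ.filter fun i => ¬ (2 : ℤ) ∣ a i

theorem mem_oddSet {a : GolayPt → ℤ} {i : GolayPt} : i ∈ oddSet a ↔ ¬ (2 : ℤ) ∣ a i := by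
  simp [oddSet]

theorem oddSet_add (a b : GolayPt → ℤ) : oddSet (a + b) = oddSet a ∆ oddSet b := by
  ext i
  simp only [mem_oddSet, Finset.mem_symmDiff, Pi.add_apply]
  omega

theorem oddSet_eq_iff {a b : GolayPt → ℤ} : oddSet a = oddSet b ↔ ∀ i, (2 : ℤ) ∣ a i - b i := by
  simp only [Finset.ext_iff, mem_oddSet]
  exact forall_congr' fun i => by omega

theorem dot_parity (a b : GolayPt → ℤ) :
    (2 : ℤ) ∣ ∑ i, a i * b i - ((oddSet a ∩ oddSet b).card : ℤ) := by
  have hf : oddSet a ∩ oddSet b = univ.filter fun i => i ∈ oddSet a ∧ i ∈ oddSet b := by ext; simp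
  rw [hf, Finset.natCast_card_filter, ← Finset.sum_sub_distrib]
  refine Finset.dvd_sum fun i _ => ?_
  simp only [mem_oddSet]
  split_ifs with h
  · have : ¬ (2 : ℤ) ∣ a i * b i := fun hd => (Int.prime_two.dvd_mul.1 hd).elim h.1 h.2
    omega
  · rw [sub_zero]
    rcases not_and_or.1 h with h | h
    · exact dvd_mul_of_dvd_left (not_not.1 h) _
    · exact dvd_mul_of_dvd_right (not_not.1 h) _

theorem sq_parity (a : GolayPt → ℤ) : (4 : ℤ) ∣ ∑ i, a i ^ 2 - ((oddSet a).card : ℤ) := by
  rw [oddSet, Finset.natCast_card_filter, ← Finset.sum_sub_distrib]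
  refine Finset.dvd_sum fun i _ => ?_
  obtain ⟨k, h | h⟩ := (a i).even_or_odd'
  · rw [if_neg (by omega)]; exact ⟨k ^ 2, by rw [h]; ring⟩
  · rw [if_pos (by omega)]; exact ⟨k ^ 2 + k, by rw [h]; ring⟩

theorem sum_parity (a : GolayPt → ℤ) : (2 : ℤ) ∣ ∑ i, a i - ((oddSet a).card : ℤ) := by
  rw [oddSet, Finset.natCast_card_filter, ← Finset.sum_sub_distrib]
  exact Finset.dvd_sum fun i _ => by split_ifs <;> omega

theorem sum_indicator (c : Finset GolayPt) : ∑ i, (if i ∈ c then (1 : ℤ) else 0) = c.card := by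
  rw [Finset.sum_boole]; simp

theorem card_pt : Fintype.card GolayPt = 24 := by simp [ZMod.card]

/-- The vector twice `a`. -/
theorem sqNorm_two_mul (a : GolayPt → ℤ) : sqNorm ((2 : ℤ) • a) = 4 * ∑ i, a i ^ 2 := by
  simp only [sqNorm, Pi.smul_apply, smul_eq_mul, mul_pow, ← Finset.mul_sum]; norm_num

open Classical in
/-- The supports of the halved even vectors. -/
noncomputable def codeOf (L : AddSubgroup (GolayPt → ℤ)) : Finset (Finset GolayPt) :=
  univ.filter fun c => ∃ a, (2 : ℤ) • a ∈ L ∧ oddSet a = c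

theorem mem_codeOf {L : AddSubgroup (GolayPt → ℤ)} {c : Finset GolayPt} :
    c ∈ codeOf L ↔ ∃ a, (2 : ℤ) • a ∈ L ∧ oddSet a = c := by simp [codeOf]

variable {L : AddSubgroup (GolayPt → ℤ)} (hL : IsFramed L)
include hL

theorem IsFramed.dot_dvd {x y : GolayPt → ℤ} (hx : x ∈ L) (hy : y ∈ L) :
    (8 : ℤ) ∣ ∑ i, x i * y i := by
  have h1 := hL.dvd _ (add_mem hx hy)
  have h2 := hL.dvd x hx
  have h3 := hL.dvd y hy
  rw [Leech.sqNorm_add, dotInt] at h1
  omega

theorem IsFramed.single_eight (i : GolayPt) : Pi.single i 8 ∈ L := by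
  obtain ⟨j, hj⟩ := Fintype.exists_ne_of_one_lt_card (by rw [card_pt]; norm_num) i
  obtain ⟨h1, h2⟩ := hL.pairs i j hj.symm
  convert add_mem h1 h2 using 1
  rw [add_add_sub_cancel, ← Pi.single_add]; norm_num

theorem IsFramed.four_smul_mem (u : GolayPt → ℤ) (hu : (2 : ℤ) ∣ ∑ i, u i) : (4 : ℤ) • u ∈ L := by
  obtain ⟨t, ht⟩ := hu
  have key : (4 : ℤ) • u = (∑ i, u i • (Pi.single i 4 - Pi.single none 4 : GolayPt → ℤ)) +
      t • (Pi.single none 8 : GolayPt → ℤ) := by
    funext p
    simp only [Pi.add_apply, Finset.sum_apply, Pi.smul_apply, Pi.sub_apply, smul_eq_mul, mul_sub,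
      Finset.sum_sub_distrib, ← Finset.sum_mul, ht]
    rw [Finset.sum_eq_single p (fun b _ hb => by rw [Pi.single_eq_of_ne hb.symm, mul_zero])
      (fun h => absurd (Finset.mem_univ p) h), Pi.single_eq_same]
    by_cases hp : p = none
    · subst hp; simp only [Pi.single_eq_same]; ring
    · simp only [Pi.single_eq_of_ne hp]; ring
  rw [key]
  refine add_mem (sum_mem fun i _ => zsmul_mem ?_ _) (zsmul_mem (hL.single_eight none) _)
  by_cases h : i = none
  · subst h; rw [sub_self]; exact zero_mem L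
  · exact (hL.pairs i none h).2

theorem IsFramed.even_of_four_smul {u : GolayPt → ℤ} (hu : (4 : ℤ) • u ∈ L) :
    (2 : ℤ) ∣ ∑ i, u i := by
  by_contra hodd
  have h1 : (4 : ℤ) • (u - Pi.single none 1) ∈ L := hL.four_smul_mem _ (by
    simp only [Pi.sub_apply, Finset.sum_sub_distrib, Finset.sum_pi_single', Finset.mem_univ, if_true]
    omega)
  have h2 : (Pi.single none 4 : GolayPt → ℤ) ∈ L := by
    convert sub_mem hu h1 using 1
    funext p
    by_cases hp : p = none
    · subst hp; simp; ring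
    · simp [Pi.single_eq_of_ne hp]
  have h3 := hL.min _ h2 (fun e => by simpa using congrFun e none)
  simp [sqNorm, Pi.single_apply] at h3

theorem IsFramed.two_smul_iff {a b : GolayPt → ℤ} (ha : (2 : ℤ) • a ∈ L)
    (hab : oddSet b = oddSet a) : (2 : ℤ) • b ∈ L ↔ (4 : ℤ) ∣ ∑ i, b i - ∑ i, a i := by
  choose u hu using oddSet_eq_iff.1 hab
  have hb : (2 : ℤ) • b = (2 : ℤ) • a + (4 : ℤ) • u := funext fun i => by
    simp only [Pi.smul_apply, Pi.add_apply, smul_eq_mul]
    linarith [hu i]
  have hs : ∑ i, b i - ∑ i, a i = 2 * ∑ i, u i := by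
    rw [← Finset.sum_sub_distrib, Finset.mul_sum]; exact Finset.sum_congr rfl fun i _ => hu i
  rw [hb, hs]
  constructor
  · intro h
    obtain ⟨k, hk⟩ := hL.even_of_four_smul ((add_mem_cancel_left ha).1 h)
    exact ⟨k, by omega⟩
  · rintro ⟨k, hk⟩
    exact add_mem ha (hL.four_smul_mem u ⟨k, by omega⟩)

theorem IsFramed.code_empty : ∅ ∈ codeOf L :=
  mem_codeOf.2 ⟨0, by rw [smul_zero]; exact zero_mem L, by simp [oddSet]⟩

theorem IsFramed.code_symm {a b : Finset GolayPt} (ha : a ∈ codeOf L) (hb : b ∈ codeOf L) :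
    a ∆ b ∈ codeOf L := by
  obtain ⟨x, hx, rfl⟩ := mem_codeOf.1 ha
  obtain ⟨y, hy, rfl⟩ := mem_codeOf.1 hb
  exact mem_codeOf.2 ⟨x + y, by rw [smul_add]; exact add_mem hx hy, oddSet_add x y⟩

theorem IsFramed.code_four_dvd {c : Finset GolayPt} (hc : c ∈ codeOf L) : 4 ∣ c.card := by
  obtain ⟨a, ha, rfl⟩ := mem_codeOf.1 hc
  have h1 := hL.dvd _ ha
  rw [sqNorm_two_mul] at h1
  have h2 := sq_parity a
  omega

theorem IsFramed.code_even_inter {c d : Finset GolayPt} (hc : c ∈ codeOf L) (hd : d ∈ codeOf L) :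
    Even (c ∩ d).card := by
  have h := card_symmDiff_add c d
  have h1 := hL.code_four_dvd hc
  have h2 := hL.code_four_dvd hd
  have h3 := hL.code_four_dvd (hL.code_symm hc hd)
  rw [Nat.even_iff]; omega

theorem IsFramed.code_ne_four {c : Finset GolayPt} (hc : c ∈ codeOf L) : c.card ≠ 4 := by
  intro h4
  obtain ⟨a, ha, hac⟩ := mem_codeOf.1 hc
  obtain ⟨p, hp⟩ := Finset.card_pos.1 (by omega : 0 < c.card)
  let ind : GolayPt → ℤ := fun i => if i ∈ c then 1 else 0
  have hsum : ∑ i, ind i = 4 := by simp only [ind]; rw [sum_indicator, h4]; norm_num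
  have hpar := sum_parity a
  rw [hac, h4] at hpar
  obtain ⟨b, hb1, hb2, hb3⟩ : ∃ b : GolayPt → ℤ, oddSet b = c ∧ (∀ i, b i ^ 2 = ind i) ∧
      (4 : ℤ) ∣ ∑ i, b i - ∑ i, a i := by
    by_cases h : (4 : ℤ) ∣ ∑ i, ind i - ∑ i, a i
    · refine ⟨ind, ?_, fun i => ?_, h⟩
      · ext i; simp only [mem_oddSet, ind]; split_ifs with hi <;> simp [hi]
      · simp only [ind]; split_ifs <;> norm_num
    · refine ⟨ind - Pi.single p 2, ?_, fun i => ?_, ?_⟩
      · ext i; simp only [mem_oddSet, ind, Pi.sub_apply]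
        by_cases hip : i = p
        · subst hip; simp [hp]
        · rw [Pi.single_eq_of_ne hip, sub_zero]; split_ifs with hi <;> simp [hi]
      · simp only [ind, Pi.sub_apply]
        by_cases hip : i = p
        · subst hip; simp [hp]
        · rw [Pi.single_eq_of_ne hip, sub_zero]; split_ifs <;> norm_num
      · simp only [Pi.sub_apply, Finset.sum_sub_distrib, Finset.sum_pi_single', Finset.mem_univ,
          if_true]
        omega
  have hm := (hL.two_smul_iff ha (hb1.trans hac.symm)).2 hb3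
  have hn := hL.min _ hm (fun e => by
    have := congrFun e p
    have h2 := hb2 p
    simp only [Pi.smul_apply, Pi.zero_apply, smul_eq_mul] at this
    simp [ind, hp, (by omega : b p = 0)] at h2)
  rw [sqNorm_two_mul, Finset.sum_congr rfl fun i _ => hb2 i, hsum] at hn
  omega

theorem IsFramed.card_code_le : (codeOf L).card ≤ 4096 := by
  have h := card_evenPerp_mul (U := (univ : Finset GolayPt)) hL.code_empty
    (fun d _ => subset_univ d) (fun a ha b hb => hL.code_symm ha hb)
  rw [card_univ, card_pt] at h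
  have hsub : codeOf L ⊆ evenPerp univ (codeOf L) := fun c hc => by
    simp only [evenPerp, mem_filter, mem_powerset, subset_univ, true_and]
    exact fun d hd => hL.code_even_inter hc hd
  have := Finset.card_le_card hsub
  nlinarith

theorem IsFramed.card_octads_le : ((codeOf L).filter fun c => c.card = 8).card ≤ 759 := by
  set O := (codeOf L).filter fun c => c.card = 8
  have hdis : (O : Set (Finset GolayPt)).PairwiseDisjoint fun c => c.powersetCard 5 := by
    intro a ha b hb hab
    simp only [O, mem_coe, mem_filter] at ha hb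
    refine Finset.disjoint_left.2 fun s hs hs' => hab ?_
    rw [mem_powersetCard] at hs hs'
    have h5 : 5 ≤ (a ∩ b).card := hs.2 ▸ card_le_card (subset_inter hs.1 hs'.1)
    have h := card_symmDiff_add a b
    have h4 := hL.code_ne_four (hL.code_symm ha.1 hb.1)
    have h4' := hL.code_four_dvd (hL.code_symm ha.1 hb.1)
    exact symmDiff_eq_bot.1 (card_eq_zero.1 (by omega))
  have h1 : (O.biUnion fun c => c.powersetCard 5) ⊆ (univ : Finset GolayPt).powersetCard 5 := by
    intro s hs
    obtain ⟨c, -, hs⟩ := mem_biUnion.1 hs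
    exact mem_powersetCard.2 ⟨subset_univ s, (mem_powersetCard.1 hs).2⟩
  have h2 := card_le_card h1
  rw [card_biUnion hdis, Finset.sum_congr rfl (g := fun _ => 56) (fun c hc => by
    rw [card_powersetCard, (mem_filter.1 hc).2]; rfl), sum_const, smul_eq_mul, card_powersetCard,
    card_univ, card_pt] at h2
  have h3 : Nat.choose 24 5 = 42504 := by decide
  omega

end CfsgLib.LeechUnique
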