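import Cfsg.Agent.LeechUnique.Normal
import Cfsg.Agent.Leech.Frame
import Cfsg.Agent.Leech.Count

/-!
An even lattice of rank 24 without roots and with the Leech lattice's numbers of short vectors is
isometric to the Leech lattice.
-/

set_option autoImplicit false

namespace CfsgLib.LeechUnique

open Cfsg Matrix Finset CfsgLib.Leech

variable {B : Matrix (Fin 24) (Fin 24) ℤ}

/-- A frame: 24 mutually orthogonal vectors of norm 8, congruent modulo 2. -/
theorem exists_frame (h : IsRootless B)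
    (h4 : {x : Fin 24 → ℤ | x ⬝ᵥ (B *ᵥ x) = 4}.ncard = 196560)
    (h6 : {x : Fin 24 → ℤ | x ⬝ᵥ (B *ᵥ x) = 6}.ncard = 16773120)
    (h8 : {x : Fin 24 → ℤ | x ⬝ᵥ (B *ᵥ x) = 8}.ncard = 398034000) :
    ∃ v : GolayPt → Fin 24 → ℤ, Function.Injective v ∧ (∀ p, v p ⬝ᵥ (B *ᵥ v p) = 8) ∧
      (∀ p q, p ≠ q → v p ⬝ᵥ (B *ᵥ v q) = 0) ∧ ∀ p q i, (2 : ℤ) ∣ (v p - v q) i := by
  classical
  obtain ⟨x0, hx0⟩ := Set.nonempty_of_ncard_ne_zero (show
    {x : Fin 24 → ℤ | x ⬝ᵥ (B *ᵥ x) = 8}.ncard ≠ 0 by rw [h8]; norm_num)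
  rw [Set.mem_setOf_eq] at hx0
  have hc := (h.frames h4 h6 h8).1 x0 hx0
  set Y := (Set.finite_of_ncard_ne_zero (by rw [hc]; norm_num : {y : Fin 24 → ℤ | y ⬝ᵥ (B *ᵥ y) = 8 ∧
    ∀ i, (2 : ℤ) ∣ (x0 - y) i}.ncard ≠ 0)).toFinset with hY
  have hYcard : Y.card = 48 := by rw [hY, ← Set.ncard_eq_toFinset_card _ _, hc]
  have hYm : ∀ y, y ∈ Y ↔ y ⬝ᵥ (B *ᵥ y) = 8 ∧ ∀ i, (2 : ℤ) ∣ (x0 - y) i := fun y => by simp [hY]
  have hneg : ∀ y ∈ Y, -y ∈ Y := fun y hy => by
    rw [hYm] at hy ⊢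
    refine ⟨by simpa [mulVec_neg] using hy.1, fun i => ?_⟩
    have := hy.2 i
    simp only [Pi.sub_apply, Pi.neg_apply] at *
    omega
  let P : (Fin 24 → ℤ) → Prop := fun x => toLex (-x) < toLex x
  have hne : ∀ y ∈ Y, toLex (-y) ≠ toLex y := fun y hy e => by
    have e' : -y = y := toLex.injective e
    have h0 : y = 0 := funext fun i => by
      have := congrFun e' i
      simp only [Pi.neg_apply] at this
      simp only [Pi.zero_apply]; omega
    have h8' := ((hYm y).1 hy).1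
    rw [h0] at h8'
    simp at h8'
  have hhalf : (Y.filter P).card = 24 := by
    have h1 := card_filter_add_card_filter_not (s := Y) P
    have h2 : (Y.filter P).card = (Y.filter fun y => ¬ P y).card := by
      refine Finset.card_bij' (fun y _ => -y) (fun y _ => -y) ?_ ?_
        (fun y _ => neg_neg y) (fun y _ => neg_neg y)
      · intro y hy
        obtain ⟨hyY, hp⟩ := mem_filter.1 hy
        refine mem_filter.2 ⟨hneg y hyY, ?_⟩
        simp only [P, neg_neg] at hp ⊢
        exact not_lt.2 hp.le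
      · intro y hy
        obtain ⟨hyY, hp⟩ := mem_filter.1 hy
        refine mem_filter.2 ⟨hneg y hyY, ?_⟩
        simp only [P, neg_neg] at hp ⊢
        exact lt_of_le_of_ne (not_lt.1 hp) (hne y hyY).symm
    omega
  let e : GolayPt ≃ {y // y ∈ Y.filter P} :=
    Fintype.equivOfCardEq (by rw [Fintype.card_coe, hhalf, card_pt])
  have hin : ∀ p, (e p).1 ∈ Y ∧ P (e p).1 := fun p => mem_filter.1 (e p).2
  have hcongr : ∀ p q i, (2 : ℤ) ∣ ((e p).1 - (e q).1) i := fun p q i => by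
    have h1 := ((hYm _).1 (hin p).1).2 i
    have h2 := ((hYm _).1 (hin q).1).2 i
    simp only [Pi.sub_apply] at *
    omega
  refine ⟨fun p => (e p).1, fun p q hpq => e.injective (Subtype.ext hpq),
    fun p => ((hYm _).1 (hin p).1).1, fun p q hpq => ?_, hcongr⟩
  rcases h.congr_cases (x := (e p).1) (y := (e q).1) ((hYm _).1 (hin p).1).1.le
    ((hYm _).1 (hin q).1).1.le (hcongr p q) with r | r | ⟨-, -, r⟩
  · exact absurd (e.injective (Subtype.ext r)) (Ne.symm hpq)
  · have a := (hin p).2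
    have b := (hin q).2
    simp only [P, r, neg_neg] at a b
    exact absurd a (lt_asymm b)
  · exact r

theorem characterisation (h : IsRootless B)
    (h4 : {x : Fin 24 → ℤ | x ⬝ᵥ (B *ᵥ x) = 4}.ncard = 196560)
    (h6 : {x : Fin 24 → ℤ | x ⬝ᵥ (B *ᵥ x) = 6}.ncard = 16773120)
    (h8 : {x : Fin 24 → ℤ | x ⬝ᵥ (B *ᵥ x) = 8}.ncard = 398034000) :
    ∃ f : (Fin 24 → ℤ) ≃+ Cfsg.leechLattice, ∀ x : Fin 24 → ℤ,
      Cfsg.sqNorm ((f x : Cfsg.leechLattice) : Cfsg.GolayPt → ℤ) = 8 * (x ⬝ᵥ (B *ᵥ x)) := by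
  classical
  obtain ⟨v, hvinj, hv8, hv0, hvc⟩ := exists_frame h h4 h6 h8
  let c : (Fin 24 → ℤ) →+ (GolayPt → ℤ) := AddMonoidHom.mk' (fun y p => v p ⬝ᵥ (B *ᵥ y)) fun a b =>
    funext fun p => by simp [mulVec_add, dotProduct_add]
  have hc : ∀ y p, c y p = v p ⬝ᵥ (B *ᵥ y) := fun _ _ => rfl
  have hcv : ∀ p, c (v p) = Pi.single p 8 := fun p => funext fun q => by
    rw [hc]
    by_cases hq : q = p
    · subst hq; rw [hv8, Pi.single_eq_same]
    · rw [hv0 q p hq, Pi.single_eq_of_ne hq]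
  -- the frame spans over the rationals
  have hexp : ∀ y, (8 : ℤ) • y = ∑ p, c y p • v p := by
    intro y
    by_contra hne
    set z := (8 : ℤ) • y - ∑ p, c y p • v p with hz
    have hz0 : z ≠ 0 := sub_ne_zero.2 hne
    have hzv : ∀ p, v p ⬝ᵥ (B *ᵥ z) = 0 := fun p => by
      show c z p = 0
      rw [hz, map_sub, map_zsmul, map_sum]
      simp only [map_zsmul, hcv, Pi.sub_apply, Finset.sum_apply, Pi.smul_apply, smul_eq_mul]
      rw [Finset.sum_eq_single p (fun b _ hb => by rw [Pi.single_eq_of_ne hb.symm, mul_zero])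
        (fun h => absurd (Finset.mem_univ p) h), Pi.single_eq_same]
      ring
    have hzn : z ∉ Finset.univ.image v := fun hm => by
      obtain ⟨p, -, hp⟩ := mem_image.1 hm
      have := hzv p
      rw [← hp, hv8] at this
      omega
    have := h.card_orth_le (insert z (Finset.univ.image v)) (fun a ha => ?_) (fun a ha b hb hab => ?_)
    · rw [card_insert_of_notMem hzn, card_image_of_injective _ hvinj, card_univ, card_pt] at this
      omega
    · rcases mem_insert.1 ha with rfl | ha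
      · exact hz0
      · obtain ⟨p, -, rfl⟩ := mem_image.1 ha
        intro e
        have := hv8 p
        rw [e] at this
        simp at this
    · rcases mem_insert.1 ha with rfl | ha <;> rcases mem_insert.1 hb with rfl | hb
      · exact absurd rfl hab
      · obtain ⟨p, -, rfl⟩ := mem_image.1 hb
        rw [h.dot_comm]; exact hzv p
      · obtain ⟨p, -, rfl⟩ := mem_image.1 ha
        exact hzv p
      · obtain ⟨p, -, rfl⟩ := mem_image.1 ha
        obtain ⟨q, -, rfl⟩ := mem_image.1 hb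
        exact hv0 p q fun e => hab (e ▸ rfl)
  have hnorm : ∀ y, sqNorm (c y) = 8 * (y ⬝ᵥ (B *ᵥ y)) := by
    intro y
    have e : (8 : ℤ) * (y ⬝ᵥ (B *ᵥ y)) = ((8 : ℤ) • y) ⬝ᵥ (B *ᵥ y) := by
      rw [smul_dotProduct, smul_eq_mul]
    rw [e, hexp y, sum_dotProduct]
    exact Finset.sum_congr rfl fun p _ => by rw [smul_dotProduct, smul_eq_mul, hc, sq]
  have hcinj : Function.Injective c := (injective_iff_map_eq_zero c).2 fun y hy => by
    by_contra h0
    have := h.pos y h0
    have e := hnorm y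
    rw [hy] at e
    simp [sqNorm] at e
    omega
  have hL : IsFramed c.range :=
    { dvd := by
        rintro - ⟨y, rfl⟩
        obtain ⟨k, hk⟩ := h.even y
        rw [hnorm, hk]; exact ⟨k, by ring⟩
      min := by
        rintro - ⟨y, rfl⟩ h0
        have := h.four_le (x := y) (fun e => h0 (by rw [e, map_zero]))
        rw [hnorm]; omega
      parity := by
        rintro - ⟨y, rfl⟩ p q
        choose w hw using hvc p q
        refine ⟨w ⬝ᵥ (B *ᵥ y), ?_⟩
        rw [hc, hc, ← sub_dotProduct, show v p - v q = (2 : ℤ) • w from funext fun i => by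
          simp [hw i], smul_dotProduct, smul_eq_mul]
      pairs := fun p q _ => by
        choose w hw using hvc p q
        have hw' : v p - v q = (2 : ℤ) • w := funext fun i => by simp [hw i]
        have h2 : Pi.single p 4 - Pi.single q 4 = c w := funext fun r => by
          have e := congrFun (congrArg c hw') r
          rw [map_sub, map_zsmul, hcv, hcv] at e
          simp only [Pi.sub_apply, Pi.smul_apply, smul_eq_mul, Pi.single_apply] at e ⊢
          split_ifs at e ⊢ <;> omega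
        refine ⟨⟨w + v q, ?_⟩, ⟨w, h2.symm⟩⟩
        rw [map_add, ← h2, hcv]
        funext r
        simp only [Pi.add_apply, Pi.sub_apply, Pi.single_apply]
        split_ifs <;> norm_num
      count := by
        rw [← h4, ← Set.ncard_image_of_injective {x : Fin 24 → ℤ | x ⬝ᵥ (B *ᵥ x) = 4} hcinj]
        congr 1
        ext z
        constructor
        · rintro ⟨⟨y, rfl⟩, hy⟩
          rw [hnorm] at hy
          exact ⟨y, by show y ⬝ᵥ (B *ᵥ y) = 4; omega, rfl⟩
        · rintro ⟨y, hy, rfl⟩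
          refine ⟨⟨y, rfl⟩, ?_⟩
          rw [hnorm, show y ⬝ᵥ (B *ᵥ y) = 4 from hy]; norm_num }
  obtain ⟨Φ, hΦ, hle⟩ := hL.exists_iso
  let g : (Fin 24 → ℤ) →+ (GolayPt → ℤ) := (Φ : (GolayPt → ℤ) →+ (GolayPt → ℤ)).comp c
  have hgn : ∀ y, sqNorm (g y) = 8 * (y ⬝ᵥ (B *ᵥ y)) := fun y => (hΦ (c y)).trans (hnorm y)
  have hginj : Function.Injective g := Φ.injective.comp hcinj
  have hmem : ∀ y, g y ∈ leechLattice := fun y => hle ⟨c y, ⟨y, rfl⟩, rfl⟩
  have hrange : leechLattice ≤ g.range := by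
    rw [← closure_minimal, AddSubgroup.closure_le]
    have heq : g '' {x : Fin 24 → ℤ | x ⬝ᵥ (B *ᵥ x) = 4} =
        {x : GolayPt → ℤ | x ∈ leechLattice ∧ sqNorm x = 32} := by
      refine Set.eq_of_subset_of_ncard_le ?_ ?_ (Set.finite_of_ncard_ne_zero ?_)
      · rintro - ⟨y, hy, rfl⟩
        exact ⟨hmem y, by rw [hgn, show y ⬝ᵥ (B *ᵥ y) = 4 from hy]; norm_num⟩
      · rw [Set.ncard_image_of_injective _ hginj, h4, ncard_norm32]
      · rw [ncard_norm32]; norm_num
    intro x hx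
    rw [← heq] at hx
    obtain ⟨y, -, rfl⟩ := hx
    exact ⟨y, rfl⟩
  refine ⟨AddEquiv.ofBijective (g.codRestrict leechLattice hmem) ⟨fun a b e => hginj (Subtype.ext_iff.1 e),
    fun z => ?_⟩, fun x => hgn x⟩
  obtain ⟨y, hy⟩ := hrange z.2
  exact ⟨y, Subtype.ext hy⟩

end CfsgLib.LeechUnique
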