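import Cfsg.Agent.LeechUnique.Counting

/-!
A framed lattice is carried onto the Leech lattice by a permutation and sign changes of coordinates.
-/

set_option autoImplicit false
set_option linter.unusedSectionVars false

namespace CfsgLib.LeechUnique

open Cfsg CfsgLib.Mathieu Finset
open scoped symmDiff

/-- Sign changes at the positions in `S`. -/
def flipE (S : Finset GolayPt) : (GolayPt → ℤ) ≃+ (GolayPt → ℤ) where
  toFun x i := if i ∈ S then -x i else x i
  invFun x i := if i ∈ S then -x i else x i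
  left_inv x := funext fun i => by simp only; split_ifs <;> simp
  right_inv x := funext fun i => by simp only; split_ifs <;> simp
  map_add' x y := funext fun i => by
    simp only [Pi.add_apply]
    split_ifs <;> ring

/-- Renaming the positions along `e`. -/
def permE (e : GolayPt ≃ GolayPt) : (GolayPt → ℤ) ≃+ (GolayPt → ℤ) where
  toFun x i := x (e.symm i)
  invFun y i := y (e i)
  left_inv x := funext fun i => by simp
  right_inv x := funext fun i => by simp
  map_add' _ _ := rfl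

theorem flipE_apply (S : Finset GolayPt) (x : GolayPt → ℤ) (i : GolayPt) :
    flipE S x i = if i ∈ S then -x i else x i := rfl

theorem permE_apply (e : GolayPt ≃ GolayPt) (x : GolayPt → ℤ) (i : GolayPt) :
    permE e x i = x (e.symm i) := rfl

theorem sqNorm_flipE (S : Finset GolayPt) (x : GolayPt → ℤ) : sqNorm (flipE S x) = sqNorm x :=
  Finset.sum_congr rfl fun i _ => by rw [flipE_apply]; split_ifs <;> ring

theorem sqNorm_permE (e : GolayPt ≃ GolayPt) (x : GolayPt → ℤ) : sqNorm (permE e x) = sqNorm x :=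
  Equiv.sum_comp e.symm fun i => x i ^ 2

theorem symm_mem_of_mem_map {L : AddSubgroup (GolayPt → ℤ)} {f : (GolayPt → ℤ) ≃+ (GolayPt → ℤ)}
    {b : GolayPt → ℤ} (h : (2 : ℤ) • b ∈ L.map (f : (GolayPt → ℤ) →+ (GolayPt → ℤ))) :
    (2 : ℤ) • f.symm b ∈ L := by
  obtain ⟨x, hx, e⟩ := h
  rw [← map_zsmul, ← e]
  simpa using hx

theorem IsFramed.map {L : AddSubgroup (GolayPt → ℤ)} (hL : IsFramed L)
    (f : (GolayPt → ℤ) ≃+ (GolayPt → ℤ)) (hn : ∀ x, sqNorm (f x) = sqNorm x)
    (hp : ∀ x, (∀ i j, (2 : ℤ) ∣ x i - x j) → ∀ i j, (2 : ℤ) ∣ f x i - f x j)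
    (hpair : ∀ i j : GolayPt, i ≠ j →
      f.symm (Pi.single i 4 + Pi.single j 4) ∈ L ∧ f.symm (Pi.single i 4 - Pi.single j 4) ∈ L) :
    IsFramed (L.map (f : (GolayPt → ℤ) →+ (GolayPt → ℤ))) where
  dvd := by rintro - ⟨x, hx, rfl⟩; exact (hn x).symm ▸ hL.dvd x hx
  min := by
    rintro - ⟨x, hx, rfl⟩ h0
    exact (hn x).symm ▸ hL.min x hx (fun e => h0 (by rw [e, map_zero]))
  parity := by rintro - ⟨x, hx, rfl⟩; exact hp x (hL.parity x hx)
  pairs i j hij := ⟨⟨_, (hpair i j hij).1, f.apply_symm_apply _⟩,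
    ⟨_, (hpair i j hij).2, f.apply_symm_apply _⟩⟩
  count := by
    rw [← hL.count, ← Set.ncard_image_of_injective {x | x ∈ L ∧ sqNorm x = 32} f.injective]
    congr 1
    ext y
    constructor
    · rintro ⟨⟨x, hx, rfl⟩, hy⟩
      exact ⟨x, ⟨hx, (hn x) ▸ hy⟩, rfl⟩
    · rintro ⟨x, ⟨hx, hy⟩, rfl⟩
      exact ⟨⟨x, hx, rfl⟩, (hn x).trans hy⟩

theorem IsFramed.flip {L : AddSubgroup (GolayPt → ℤ)} (hL : IsFramed L) (S : Finset GolayPt) :
    IsFramed (L.map (flipE S : (GolayPt → ℤ) →+ (GolayPt → ℤ))) := by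
  refine hL.map _ (sqNorm_flipE S) (fun x hx i j => ?_) fun i j hij => ?_
  · have := hx i j
    simp only [flipE_apply]
    split_ifs <;> omega
  · have hs : ∀ k, (flipE S).symm (Pi.single k 4) = Pi.single k 4 ∨
        (flipE S).symm (Pi.single k 4) = -Pi.single k 4 := by
      intro k
      by_cases hk : k ∈ S
      · right; funext p
        show (if p ∈ S then -(Pi.single k 4 : GolayPt → ℤ) p else (Pi.single k 4 : GolayPt → ℤ) p) = _
        by_cases hpk : p = k
        · subst hpk; simp [hk]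
        · simp [Pi.single_eq_of_ne hpk]
      · left; funext p
        show (if p ∈ S then -(Pi.single k 4 : GolayPt → ℤ) p else (Pi.single k 4 : GolayPt → ℤ) p) = _
        by_cases hpk : p = k
        · subst hpk; simp [hk]
        · simp [Pi.single_eq_of_ne hpk]
    obtain ⟨h1, h2⟩ := hL.pairs i j hij
    rw [map_add, map_sub]
    rcases hs i with a | a <;> rcases hs j with b | b <;> rw [a, b]
    · exact ⟨h1, h2⟩
    · rw [← sub_eq_add_neg, sub_neg_eq_add]; exact ⟨h2, h1⟩
    · exact ⟨by rw [neg_add_eq_sub, ← neg_sub]; exact neg_mem h2,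
        by rw [← neg_add']; exact neg_mem h1⟩
    · exact ⟨by rw [← neg_add]; exact neg_mem h1,
        by rw [sub_neg_eq_add, ← sub_eq_neg_add]; simpa using neg_mem h2⟩

theorem IsFramed.perm {L : AddSubgroup (GolayPt → ℤ)} (hL : IsFramed L) (e : GolayPt ≃ GolayPt) :
    IsFramed (L.map (permE e : (GolayPt → ℤ) →+ (GolayPt → ℤ))) := by
  refine hL.map _ (sqNorm_permE e) (fun x hx i j => hx _ _) fun i j hij => ?_
  have hs : ∀ k, (permE e).symm (Pi.single k 4) = Pi.single (e.symm k) 4 := fun k => funext fun p => by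
    show (Pi.single k 4 : GolayPt → ℤ) (e p) = _
    simp [Pi.single_apply, Equiv.eq_symm_apply]
  rw [map_add, map_sub, hs, hs]
  exact hL.pairs _ _ (e.symm.injective.ne hij)

theorem codeOf_permE {L : AddSubgroup (GolayPt → ℤ)} (e : GolayPt ≃ GolayPt) (c : Finset GolayPt) :
    c ∈ codeOf (L.map (permE e : (GolayPt → ℤ) →+ (GolayPt → ℤ))) ↔
      ∃ s ∈ codeOf L, s.image e = c := by
  have himg : ∀ b : GolayPt → ℤ, oddSet (permE e b) = (oddSet b).image e := fun b => by
    ext i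
    obtain ⟨k, rfl⟩ := e.surjective i
    rw [e.injective.mem_finset_image, mem_oddSet, mem_oddSet, permE_apply, Equiv.symm_apply_apply]
  simp only [mem_codeOf]
  constructor
  · rintro ⟨a, ha, rfl⟩
    exact ⟨_, ⟨(permE e).symm a, symm_mem_of_mem_map ha, rfl⟩,
      by rw [← himg, AddEquiv.apply_symm_apply]⟩
  · rintro ⟨s, ⟨a, ha, rfl⟩, rfl⟩
    exact ⟨permE e a, ⟨_, ha, map_zsmul (permE e) (2 : ℤ) a⟩, himg a⟩

variable {L : AddSubgroup (GolayPt → ℤ)} (hL : IsFramed L)
include hL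

/-- A set of positions whose signs normalise the sums of the halved even vectors. -/
theorem IsFramed.exists_signs : ∃ S : Finset GolayPt, ∀ a : GolayPt → ℤ, (2 : ℤ) • a ∈ L →
    (4 : ℤ) ∣ ∑ i, a i - 2 * ((S ∩ oddSet a).card : ℤ) := by
  classical
  have hC := hL.golay.1
  have hev : ∀ a : GolayPt → ℤ, (2 : ℤ) • a ∈ L → (2 : ℤ) ∣ ∑ i, a i := fun a ha => by
    have h1 := sum_parity a
    have h2 := hL.code_four_dvd (mem_codeOf.2 ⟨a, ha, rfl⟩)
    omega
  by_cases hall : ∀ a : GolayPt → ℤ, (2 : ℤ) • a ∈ L → (4 : ℤ) ∣ ∑ i, a i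
  · exact ⟨∅, fun a ha => by simpa using hall a ha⟩
  push Not at hall
  obtain ⟨d, hd, hd4⟩ := hall
  set C0 := (codeOf L).filter fun c => ∃ a, (2 : ℤ) • a ∈ L ∧ oddSet a = c ∧ (4 : ℤ) ∣ ∑ i, a i
    with hC0
  have hiff : ∀ a : GolayPt → ℤ, (2 : ℤ) • a ∈ L → (oddSet a ∈ C0 ↔ (4 : ℤ) ∣ ∑ i, a i) := by
    intro a ha
    rw [hC0, mem_filter]
    constructor
    · rintro ⟨-, b, hb, hba, h4⟩
      have := (hL.two_smul_iff hb hba.symm).1 ha
      omega
    · exact fun h => ⟨mem_codeOf.2 ⟨a, ha, rfl⟩, a, ha, rfl, h⟩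
  have hsum : ∀ a b : GolayPt → ℤ, (2 : ℤ) • a ∈ L → (2 : ℤ) • b ∈ L →
      (2 : ℤ) • (a + b) ∈ L ∧ ∑ i, (a + b) i = ∑ i, a i + ∑ i, b i := fun a b ha hb =>
    ⟨by rw [smul_add]; exact add_mem ha hb, Finset.sum_add_distrib⟩
  have hdC : oddSet d ∈ codeOf L := mem_codeOf.2 ⟨d, hd, rfl⟩
  have hcard : C0.card * 2 = (codeOf L).card := by
    have h1 := card_filter_add_card_filter_not (s := codeOf L) (fun c => c ∈ C0)
    have h2 : (codeOf L).filter (fun c => c ∈ C0) = C0 := by
      ext c; simp only [mem_filter, and_iff_right_iff_imp]; exact fun h => (mem_filter.1 h).1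
    have h3 : ((codeOf L).filter fun c => ¬ c ∈ C0).card = C0.card := by
      refine Finset.card_bij' (fun c _ => c ∆ oddSet d) (fun c _ => c ∆ oddSet d) ?_ ?_
        (fun c _ => symmDiff_symmDiff_cancel_right _ c) (fun c _ => symmDiff_symmDiff_cancel_right _ c)
      · intro c hc
        obtain ⟨hcC, hcn⟩ := mem_filter.1 hc
        obtain ⟨a, ha, rfl⟩ := mem_codeOf.1 hcC
        obtain ⟨hm, hs⟩ := hsum a d ha hd
        rw [← oddSet_add, hiff _ hm, hs]
        rw [hiff a ha] at hcn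
        have := hev a ha; have := hev d hd
        omega
      · intro c hc
        obtain ⟨hcC, a, ha, rfl, h4⟩ := mem_filter.1 hc
        obtain ⟨hm, hs⟩ := hsum a d ha hd
        refine mem_filter.2 ⟨hL.code_symm hcC hdC, ?_⟩
        rw [← oddSet_add, hiff _ hm, hs]
        omega
    rw [h2, h3] at h1
    omega
  have h0 : ∅ ∈ C0 := by
    have h := (hiff 0 (by rw [smul_zero]; exact zero_mem L)).2 (by simp)
    simpa [oddSet] using h
  have hsy : ∀ a ∈ C0, ∀ b ∈ C0, a ∆ b ∈ C0 := by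
    intro x hx y hy
    obtain ⟨-, a, ha, rfl, ha4⟩ := mem_filter.1 hx
    obtain ⟨-, b, hb, rfl, hb4⟩ := mem_filter.1 hy
    obtain ⟨hm, hs⟩ := hsum a b ha hb
    rw [← oddSet_add, hiff _ hm, hs]
    omega
  have hperp := card_evenPerp_mul (U := (univ : Finset GolayPt)) h0 (fun c _ => subset_univ c) hsy
  rw [card_univ, card_pt] at hperp
  have hlt : (codeOf L).card < (evenPerp univ C0).card := by
    rw [hC.card_words] at hcard ⊢
    rw [show C0.card = 2048 by omega] at hperp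
    omega
  obtain ⟨S, hS, hSC⟩ := exists_mem_notMem_of_card_lt_card hlt
  simp only [evenPerp, mem_filter, mem_powerset, subset_univ, true_and] at hS
  rw [hC.mem_iff_even] at hSC
  push Not at hSC
  obtain ⟨c1, hc1, hodd⟩ := hSC
  refine ⟨S, fun a ha => ?_⟩
  have hea := hev a ha
  by_cases h4 : (4 : ℤ) ∣ ∑ i, a i
  · have h := Nat.even_iff.1 (hS _ ((hiff a ha).2 h4))
    omega
  · obtain ⟨b, hb, rfl⟩ := mem_codeOf.1 hc1
    have hb4 : ¬ (4 : ℤ) ∣ ∑ i, b i := fun h => hodd (hS _ ((hiff b hb).2 h))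
    obtain ⟨hm, hs⟩ := hsum a b ha hb
    have he := Nat.even_iff.1 (hS _ ((hiff _ hm).2 (by have := hev b hb; rw [hs]; omega)))
    rw [oddSet_add] at he
    have h1 := inter_card_symmDiff S (oddSet a) (oddSet b)
    have h2 : (S ∩ oddSet b).card % 2 = 1 := Nat.not_even_iff.1 hodd
    omega

omit hL in
theorem sum_flipE (S : Finset GolayPt) (a : GolayPt → ℤ) :
    ∑ i, flipE S a i = ∑ i, a i - 2 * ∑ i ∈ S, a i := by
  have h : ∀ i, flipE S a i = a i - 2 * (if i ∈ S then a i else 0) := fun i => by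
    rw [flipE_apply]; split_ifs <;> ring
  rw [Finset.sum_congr rfl fun i _ => h i, Finset.sum_sub_distrib, ← Finset.mul_sum,
    Finset.sum_ite_mem, Finset.univ_inter]

theorem IsFramed.flip_normal (S : Finset GolayPt)
    (hS : ∀ a : GolayPt → ℤ, (2 : ℤ) • a ∈ L → (4 : ℤ) ∣ ∑ i, a i - 2 * ((S ∩ oddSet a).card : ℤ))
    (b : GolayPt → ℤ) (hb : (2 : ℤ) • b ∈ L.map (flipE S : (GolayPt → ℤ) →+ (GolayPt → ℤ))) :
    (4 : ℤ) ∣ ∑ i, b i := by
  have ha := symm_mem_of_mem_map hb
  have h1 := hS _ ha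
  have h2 : (2 : ℤ) ∣ ∑ i ∈ S, (flipE S).symm b i - ((S ∩ oddSet ((flipE S).symm b)).card : ℤ) := by
    have e : S ∩ oddSet ((flipE S).symm b) = S.filter fun i => ¬ (2 : ℤ) ∣ (flipE S).symm b i := by
      ext i; simp [mem_oddSet]
    rw [e, Finset.natCast_card_filter, ← Finset.sum_sub_distrib]
    exact Finset.dvd_sum fun i _ => by split_ifs <;> omega
  have h3 := sum_flipE S ((flipE S).symm b)
  rw [AddEquiv.apply_symm_apply] at h3
  omega

theorem codeOf_flipE (S : Finset GolayPt) :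
    codeOf (L.map (flipE S : (GolayPt → ℤ) →+ (GolayPt → ℤ))) = codeOf L := by
  have hodd : ∀ a : GolayPt → ℤ, oddSet (flipE S a) = oddSet a := fun a => by
    ext i; simp only [mem_oddSet, flipE_apply]; split_ifs <;> simp
  ext c
  simp only [mem_codeOf]
  constructor
  · rintro ⟨a, ha, rfl⟩
    exact ⟨(flipE S).symm a, symm_mem_of_mem_map ha, by rw [← hodd, AddEquiv.apply_symm_apply]⟩
  · rintro ⟨a, ha, rfl⟩
    exact ⟨flipE S a, ⟨_, ha, map_zsmul (flipE S) (2 : ℤ) a⟩, hodd a⟩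

/-- With the standard code and normalised sums the lattice lies in the Leech lattice. -/
theorem IsFramed.le_leech
    (hcode : ∀ c, c ∈ codeOf L ↔ c ∈ supports (golayCode : Set (GolayPt → ZMod 2)))
    (hnorm : ∀ a : GolayPt → ℤ, (2 : ℤ) • a ∈ L → (4 : ℤ) ∣ ∑ i, a i) : L ≤ leechLattice := by
  have hsupp : ∀ a : GolayPt → ℤ, support₂ (Leech.res2 a) = oddSet a := fun a => by
    ext i; simp [support₂, Leech.res2, mem_oddSet, ZMod.intCast_zmod_eq_zero_iff_dvd]
  have hC := hL.golay.1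
  intro x hx
  rw [Leech.mem_leech]
  by_cases he : (2 : ℤ) ∣ x none
  · choose a ha using fun i : GolayPt => (by have := hL.parity x hx i none; omega : (2 : ℤ) ∣ x i)
    have hax : (2 : ℤ) • a = x := funext fun i => (ha i).symm
    refine ⟨0, a, fun i => by rw [ha i]; ring, ?_, ?_⟩
    · have h4 := hnorm a (hax.symm ▸ hx)
      rw [Finset.sum_congr rfl fun i _ => ha i, ← Finset.mul_sum]
      unfold Int.ModEq
      omega
    · rw [Leech.mem_golayCode_iff_support, hsupp, ← hcode, mem_codeOf]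
      exact ⟨a, hax.symm ▸ hx, rfl⟩
  · choose a ha using fun i : GolayPt => (by have := hL.parity x hx i none; omega : (2 : ℤ) ∣ x i - 1)
    have hxi : ∀ i, x i = 1 + 2 * a i := fun i => by linarith [ha i]
    have hT : oddSet a ∈ codeOf L := by
      rw [hC.mem_iff_even]
      intro c hc
      obtain ⟨b, hb, rfl⟩ := mem_codeOf.1 hc
      have h1 := hL.dot_dvd hx hb
      have e : ∑ i, x i * ((2 : ℤ) • b) i = 2 * ∑ i, b i + 4 * ∑ i, a i * b i := by
        rw [Finset.mul_sum, Finset.mul_sum, ← Finset.sum_add_distrib]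
        refine Finset.sum_congr rfl fun i _ => ?_
        simp only [Pi.smul_apply, smul_eq_mul, hxi i]; ring
      rw [e] at h1
      have h2 := hnorm b hb
      have h3 := dot_parity a b
      rw [Nat.even_iff]
      omega
    refine ⟨1, a, hxi, ?_, by rw [Leech.mem_golayCode_iff_support, hsupp, ← hcode]; exact hT⟩
    have h1 := hL.dvd x hx
    have h4 := hC.four_dvd _ hT
    have hcard : (Finset.univ : Finset GolayPt).card = 24 := card_pt
    have e1 : sqNorm x = 24 + 4 * ∑ i, a i + 4 * ∑ i, a i ^ 2 := by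
      simp only [sqNorm, hxi, add_sq, Finset.sum_add_distrib, Finset.sum_const, hcard, mul_pow,
        ← Finset.mul_sum, nsmul_eq_mul]
      norm_num
      ring
    have h5 := sq_parity a
    have e2 : ∑ i, x i = 24 + 2 * ∑ i, a i := by
      simp only [hxi, Finset.sum_add_distrib, Finset.sum_const, hcard, ← Finset.mul_sum, nsmul_eq_mul]
      norm_num
    rw [e2]
    unfold Int.ModEq
    omega

/-- A framed lattice is carried into the Leech lattice by a coordinate permutation and sign changes. -/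
theorem IsFramed.exists_iso : ∃ Φ : (GolayPt → ℤ) ≃+ (GolayPt → ℤ), (∀ x, sqNorm (Φ x) = sqNorm x) ∧
    L.map (Φ : (GolayPt → ℤ) →+ (GolayPt → ℤ)) ≤ leechLattice := by
  obtain ⟨e, he⟩ := hL.golay.1.exists_equiv
  have h1 := hL.perm e
  obtain ⟨S, hS⟩ := h1.exists_signs
  have h2 := h1.flip S
  refine ⟨(permE e).trans (flipE S), fun x => (sqNorm_flipE S _).trans (sqNorm_permE e x), ?_⟩
  have hle := h2.le_leech (fun c => ?_) (h1.flip_normal S hS)
  · rintro - ⟨x, hx, rfl⟩
    exact hle ⟨_, ⟨x, hx, rfl⟩, rfl⟩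
  · rw [codeOf_flipE h1, codeOf_permE]
    constructor
    · rintro ⟨s, hs, rfl⟩; exact (he s).1 hs
    · intro hc
      refine ⟨c.image e.symm, (he _).2 ?_, ?_⟩ <;> simp [Finset.image_image, hc]

end CfsgLib.LeechUnique
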